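import Cfsg.Agent.H42.Radical.Section
import Cfsg.Agent.H56.SubAltEight

/-! The isomorphism `SL₄(2) → A₈` with the pair fixed by the symplectic group. -/

set_option autoImplicit false

namespace Cfsg.Agent.H42.Radical

open Matrix Cfsg.Agent.H27.EightPoints Cfsg.Agent.H27.PermFamily

attribute [local instance] congrAction

/-- the permutation representation -/
noncomputable def phi : SL4 →* Equiv.Perm (Fin 8) := permHom chi chi_inj stable

theorem phi_card : Nat.card SL4 = 20160 := by
  obtain ⟨e⟩ := psl_four_two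
  have h1 : Nat.card (Subgroup.center SL4) = 1 := by
    rw [Cfsg.Agent.Linear.card_center_SL, ZMod.card]; rfl
  have := Subgroup.card_eq_card_quotient_mul_card_subgroup (Subgroup.center SL4)
  rw [this, h1, mul_one, show Nat.card (SL4 ⧸ Subgroup.center SL4) = Nat.card (alternatingGroup (Fin 8)) from
    Nat.card_congr e.toEquiv, nat_card_alternatingGroup, Nat.card_eq_fintype_card, Fintype.card_fin]
  rfl

theorem center_bot : Subgroup.center SL4 = ⊥ := by
  rw [← Subgroup.card_eq_one, Cfsg.Agent.Linear.card_center_SL, ZMod.card]; rfl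

theorem phi_inj : Function.Injective phi := by
  haveI : IsSimpleGroup (ProjectiveSpecialLinearGroup (Fin 4) (ZMod 2)) :=
    Cfsg.Agent.Linear.isSimpleGroup_PSL_fin (by norm_num) (by norm_num)
  let q : SL4 →* ProjectiveSpecialLinearGroup (Fin 4) (ZMod 2) := QuotientGroup.mk' _
  have hq : Function.Injective q := by
    rw [← MonoidHom.ker_eq_bot_iff, QuotientGroup.ker_mk', center_bot]
  let eq' : SL4 ≃* ProjectiveSpecialLinearGroup (Fin 4) (ZMod 2) :=
    MulEquiv.ofBijective q ⟨hq, QuotientGroup.mk'_surjective _⟩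
  haveI : Nontrivial SL4 := eq'.toEquiv.nontrivial
  haveI : IsSimpleGroup SL4 := IsSimpleGroup.isSimpleGroup_of_surjective eq'.symm.toMonoidHom eq'.symm.surjective
  rw [← MonoidHom.ker_eq_bot_iff]
  refine phi.normal_ker.eq_bot_or_eq_top.resolve_right fun h => ?_
  obtain ⟨a, b, c, d, e, f, hm⟩ := moved
  apply hm
  have h2 := (permHom_eq_one_iff chi chi_inj stable _).1
    (MonoidHom.mem_ker.mp (h ▸ Subgroup.mem_top (SpecialLinearGroup.transvection (F := ZMod 2)
      (show (0 : Fin 4) ≠ 1 by decide) 1) : _ ∈ phi.ker)) 0 ![a, b, c, d, e, f]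
  rwa [smul_transvection] at h2

theorem phi_range : phi.range = alternatingGroup (Fin 8) := by
  refine Equiv.Perm.eq_alternatingGroup_of_index_eq_two ?_
  have h := Subgroup.card_mul_index phi.range
  rw [← Nat.card_congr (MonoidHom.ofInjective phi_inj).toEquiv, phi_card, Nat.card_perm,
    Nat.card_eq_fintype_card, Fintype.card_fin, show (8 : ℕ).factorial = 20160 * 2 from rfl] at h
  omega

theorem exists_pair : ∃ p q : Fin 8, p ≠ q ∧ ∀ i, chi i J = true ↔ (i = p ∨ i = q) := by decide +kernel

theorem keeps_pair {M : SL4} (h : Keeps (M : M4)) (i : Fin 8) : chi (phi M i) J = chi i J := by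
  have h1 := idx_spec chi stable M i J
  rwa [show M • J = J from h] at h1

theorem keeps_closed {p q : Fin 8} (hpq : ∀ i, chi i J = true ↔ (i = p ∨ i = q)) {M : SL4}
    (h : Keeps (M : M4)) : ∀ i, (i = p ∨ i = q) → (phi M i = p ∨ phi M i = q) := fun i hi =>
  (hpq _).mp ((keeps_pair h i).trans ((hpq i).mpr hi))

end Cfsg.Agent.H42.Radical
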