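import Cfsg.Agent.H56.SubAltEight

/-! A subgroup of `A₈` isomorphic to `S₆` is the stabilizer of a pair. -/

set_option autoImplicit false

namespace Cfsg.Agent.H42.Radical

open Equiv Equiv.Perm
open scoped Pointwise
open Cfsg.Agent.H56.SubAltEight

theorem even_eq_one {α : Type*} [Fintype α] [DecidableEq α] {u v : α} {σ : Equiv.Perm α}
    (hs : Equiv.Perm.sign σ = 1) (hfix : ∀ x, x ≠ u → x ≠ v → σ x = x) : σ = 1 := by
  by_contra hne
  have hsub : σ.support ⊆ {u, v} := fun x hx => by
    rw [Finset.mem_insert, Finset.mem_singleton]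
    by_contra h
    push Not at h
    exact mem_support.mp hx (hfix x h.1 h.2)
  have h2 : σ.support.card = 2 := le_antisymm ((Finset.card_le_card hsub).trans Finset.card_le_two)
    (two_le_card_support_of_ne_one hne)
  rw [(card_support_eq_two.mp h2).sign_eq] at hs
  exact absurd hs (by decide)

theorem coreFree_perm_six {G : Type*} [Group G] [Finite G] (e : G ≃* Equiv.Perm (Fin 6)) : CoreFree G := by
  intro N hN hsol
  haveI := alternatingGroup.isSimpleGroup (α := Fin 6) (by rw [Nat.card_eq_fintype_card, Fintype.card_fin]; norm_num)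
  set M := N.map e.toMonoidHom
  haveI : M.Normal := hN.map _ e.surjective
  have hMs : Group.IsSolvable M :=
    Group.isSolvable_of_surjective (f := (e.subgroupMap N).toMonoidHom) (hf := (e.subgroupMap N).surjective)
  rcases (inferInstance : (M.subgroupOf (alternatingGroup (Fin 6))).Normal).eq_bot_or_eq_top with h | h
  · have hcen : ∀ s ∈ M, s = 1 := by
      intro s hs
      refine center_perm (by simp) s fun t => ?_
      have hm : s * t * s⁻¹ * t⁻¹ ∈ M := by
        have := mul_mem hs ((inferInstance : M.Normal).conj_mem _ (inv_mem hs) t)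
        simpa [mul_assoc] using this
      have ha : s * t * s⁻¹ * t⁻¹ ∈ alternatingGroup (Fin 6) := by
        rw [Equiv.Perm.mem_alternatingGroup]
        rcases Int.units_eq_one_or (Equiv.Perm.sign s) with hs1 | hs1 <;>
          rcases Int.units_eq_one_or (Equiv.Perm.sign t) with ht1 | ht1 <;> simp [hs1, ht1]
      have h1 : (⟨_, ha⟩ : alternatingGroup (Fin 6)) ∈ M.subgroupOf (alternatingGroup (Fin 6)) := hm
      rw [h, Subgroup.mem_bot] at h1
      exact commutatorElement_eq_one_iff_commute.mp (congrArg Subtype.val h1)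
    refine (Subgroup.eq_bot_iff_forall _).mpr fun n hn => ?_
    exact e.injective ((hcen _ ⟨n, hn, rfl⟩).trans (map_one e).symm)
  · exfalso
    have hle : alternatingGroup (Fin 6) ≤ M := Subgroup.subgroupOf_eq_top.mp h
    haveI := hMs
    have hA : Group.IsSolvable (alternatingGroup (Fin 6)) :=
      Group.isSolvable_of_isSolvable_injective (Subgroup.inclusion_injective hle)
    have h6 : ¬ ∀ a b : alternatingGroup (Fin 6), a * b = b * a := fun hc => by
      have := congrArg Subtype.val (hc
        ⟨Equiv.swap 0 1 * Equiv.swap 1 2, by rw [Equiv.Perm.mem_alternatingGroup]; decide⟩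
        ⟨Equiv.swap 2 3 * Equiv.swap 3 4, by rw [Equiv.Perm.mem_alternatingGroup]; decide⟩)
      revert this; decide
    exact h6 (IsSimpleGroup.comm_iff_isSolvable.mpr hA)

/-- A subgroup of `A₈` isomorphic to `S₆` contains every even permutation stabilizing some pair. -/
theorem pair_of_six {G : Type*} [Group G] [Finite G] (e : G ≃* Equiv.Perm (Fin 6))
    (f : G →* Equiv.Perm (Fin 8)) (hf : Function.Injective f) (hsign : ∀ g, Equiv.Perm.sign (f g) = 1) :
    ∃ u v : Fin 8, u ≠ v ∧ ∀ τ : Equiv.Perm (Fin 8), Equiv.Perm.sign τ = 1 →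
      (∀ i, (i = u ∨ i = v) → (τ i = u ∨ τ i = v)) → τ ∈ f.range := by
  classical
  have hG : Nat.card G = 720 := by
    rw [Nat.card_congr e.toEquiv, Nat.card_perm, Nat.card_eq_fintype_card, Fintype.card_fin]; rfl
  haveI : Fact (Nat.Prime 5) := ⟨by norm_num⟩
  obtain ⟨g, hg⟩ := exists_prime_orderOf_dvd_card' (G := G) 5 (by rw [hG]; norm_num)
  have hfo : orderOf (f g) = 5 := by rw [orderOf_injective f hf, hg]
  obtain ⟨hcyc, hsupp⟩ := cycle_of_prime_order (Fintype.card_fin 8) (by norm_num) le_rfl hfo
  obtain ⟨a, ha⟩ : (f g).support.Nonempty := Finset.card_pos.mp (by omega)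
  let p : Fin 8 → Prop := fun x => ∃ h, f h a = x
  have hp : ∀ (h : G) (x : Fin 8), p (f h x) ↔ p x := by
    intro h x
    constructor
    · rintro ⟨k, hk⟩
      exact ⟨h⁻¹ * k, by rw [map_mul, Perm.mul_apply, hk, map_inv]; exact (f h).symm_apply_apply x⟩
    · rintro ⟨k, hk⟩
      exact ⟨h * k, by rw [map_mul, Perm.mul_apply, hk]⟩
  have hk5 : 5 ≤ Fintype.card {x // p x} := by
    rw [← hsupp, Fintype.card_subtype]
    refine Finset.card_le_card fun x hx => ?_
    obtain ⟨i, hi⟩ := hcyc.exists_pow_eq (mem_support.mp ha) (mem_support.mp hx)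
    simp only [Finset.mem_filter, Finset.mem_univ, true_and]
    exact ⟨g ^ i, by rw [map_pow, hi]⟩
  have hk8 : Fintype.card {x // p x} ≤ 8 := by
    have := Fintype.card_subtype_le p
    rwa [Fintype.card_fin] at this
  let ψ : G →* Equiv.Perm {x // p x} := MonoidHom.mk' (fun h => (f h).subtypePerm (hp h)) fun u v =>
    Equiv.ext fun x => Subtype.ext (by
      show f (u * v) x.1 = _
      rw [map_mul]; rfl)
  have hψ : Function.Injective ψ := by
    rw [← MonoidHom.ker_eq_bot_iff]
    refine coreFree_perm_six e _ ψ.normal_ker ?_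
    let χ : ↥ψ.ker →* Equiv.Perm {x // ¬ p x} := MonoidHom.mk' (fun h => (f h).subtypePerm (fun x => not_congr (hp h x)))
      fun u v => Equiv.ext fun x => Subtype.ext (by
        show f ((u : G) * v) x.1 = _
        rw [map_mul]; rfl)
    have hχ : Function.Injective χ := (injective_iff_map_eq_one _).mpr fun h hh => by
      refine Subtype.ext (hf ?_)
      show f (h : G) = f (1 : G)
      rw [map_one f]
      refine Equiv.ext fun x => ?_
      by_cases hx : p x
      · exact congrArg Subtype.val (Equiv.congr_fun (MonoidHom.mem_ker.mp h.2) ⟨x, hx⟩)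
      · exact congrArg Subtype.val (Equiv.congr_fun hh ⟨x, hx⟩)
    haveI : Group.IsSolvable (Equiv.Perm {x // ¬ p x}) := by
      refine isSolvable_of_squarefree ?_
      rw [Nat.card_perm, Nat.card_eq_fintype_card]
      have hle : Fintype.card {x // ¬ p x} ≤ 3 := by
        rw [Fintype.card_subtype_compl, Fintype.card_fin]; omega
      interval_cases (Fintype.card {x // ¬ p x}) <;> decide +kernel
    exact Group.isSolvable_of_isSolvable_injective hχ
  have hd : Nat.card G ∣ Nat.card (Equiv.Perm {x // p x}) := Subgroup.card_dvd_of_injective ψ hψ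
  rw [hG, Nat.card_perm, Nat.card_eq_fintype_card] at hd
  rcases (show Fintype.card {x // p x} = 5 ∨ Fintype.card {x // p x} = 6 ∨ Fintype.card {x // p x} = 7 ∨
      Fintype.card {x // p x} = 8 by omega) with hk | hk | hk | hk
  · rw [hk] at hd; exact absurd hd (by decide)
  · obtain ⟨u, v, huv, hset⟩ := Finset.card_eq_two.mp (show (Finset.univ.filter fun x => ¬ p x).card = 2 by
      rw [← Fintype.card_subtype, Fintype.card_subtype_compl, Fintype.card_fin, hk])
    have hnp : ∀ x, ¬ p x ↔ (x = u ∨ x = v) := fun x => by
      have := Finset.ext_iff.mp hset x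
      simpa using this
    refine ⟨u, v, huv, fun τ hτ hpair => ?_⟩
    have hτp : ∀ x, p (τ x) ↔ p x := by
      intro x
      have hinv : ∀ i, (τ i = u ∨ τ i = v) → (i = u ∨ i = v) := by
        intro i hi
        by_contra hni
        push Not at hni
        have hne := τ.injective.ne huv
        have h1 := τ.injective.ne hni.1
        have h2 := τ.injective.ne hni.2
        rcases hpair u (Or.inl rfl) with a' | a' <;> rcases hpair v (Or.inr rfl) with b' | b' <;>
          rcases hi with c' | c' <;> simp_all
      exact ⟨fun h => by_contra fun h' => (hnp _).mpr (hpair x ((hnp x).mp h')) h,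
        fun h => by_contra fun h' => (hnp _).mpr (hinv x ((hnp _).mp h')) h⟩
    have hsurj : Function.Surjective ψ := ((Nat.bijective_iff_injective_and_card ψ).mpr ⟨hψ, by
      rw [hG, Nat.card_perm, Nat.card_eq_fintype_card, hk]; rfl⟩).2
    obtain ⟨h, hh⟩ := hsurj (τ.subtypePerm hτp)
    refine ⟨h, ?_⟩
    have h1 : τ⁻¹ * f h = 1 := even_eq_one (u := u) (v := v)
      (by rw [map_mul, map_inv, hτ, hsign, inv_one, one_mul]) fun x hxu hxv => by
        have hpx : p x := by_contra fun h' => by rcases (hnp x).mp h' with h | h <;> contradiction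
        have := congrArg Subtype.val (Equiv.congr_fun hh ⟨x, hpx⟩)
        rw [Perm.mul_apply, show f h x = τ x from this]
        exact τ.symm_apply_apply x
    exact (inv_mul_eq_one.mp h1).symm
  · exfalso
    haveI : MulAction.IsPretransitive ↥ψ.range {x // p x} := by
      refine ⟨fun x y => ?_⟩
      obtain ⟨u, hu⟩ := x.2
      obtain ⟨v, hv⟩ := y.2
      refine ⟨⟨ψ (v * u⁻¹), ⟨_, rfl⟩⟩, Subtype.ext ?_⟩
      show f (v * u⁻¹) x.1 = y.1
      rw [← hu, ← hv, map_mul, Perm.mul_apply, map_inv]
      exact congrArg (f v) ((f u).symm_apply_apply a)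
    have h7 := Subgroup.index_dvd_card (MulAction.stabilizer ↥ψ.range (⟨a, 1, by simp⟩ : {x // p x}))
    rw [MulAction.index_stabilizer_of_transitive, Nat.card_eq_fintype_card, hk,
      ← Nat.card_congr (MonoidHom.ofInjective hψ).toEquiv, hG] at h7
    exact absurd h7 (by decide)
  · exfalso
    let f' := f.range
    have hall : ∀ x, p x := by
      intro x
      by_contra hx
      have := Fintype.card_subtype_lt (p := p) hx
      rw [hk, Fintype.card_fin] at this
      omega
    haveI htr : MulAction.IsPretransitive ↥f' (Fin 8) := by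
      refine ⟨fun x y => ?_⟩
      obtain ⟨u, hu⟩ := hall x
      obtain ⟨v, hv⟩ := hall y
      refine ⟨⟨f (v * u⁻¹), ⟨_, rfl⟩⟩, ?_⟩
      show f (v * u⁻¹) x = y
      rw [← hu, ← hv, map_mul, Perm.mul_apply, map_inv]
      exact congrArg (f v) ((f u).symm_apply_apply a)
    have hprim : MulAction.IsPreprimitive ↥f' (Fin 8) := by
      refine MulAction.IsPreprimitive.of_isTrivialBlock_base a (fun {B} haB hB => ?_)
      by_cases hcB : (⟨f g, g, rfl⟩ : ↥f') • B = B
      · refine Or.inr ?_
        have hpow : ∀ i : ℕ, ((⟨f g, g, rfl⟩ : ↥f') ^ i) • B = B := by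
          intro i
          induction i with
          | zero => simp
          | succ i ih => rw [pow_succ, mul_smul, hcB, ih]
        have hsupB : ((f g).support : Set (Fin 8)) ⊆ B := by
          intro x hx
          obtain ⟨i, hi⟩ := hcyc.exists_pow_eq (mem_support.mp ha) (mem_support.mp (Finset.mem_coe.mp hx))
          rw [← hpow i]
          exact ⟨a, haB, hi⟩
        have h5B : 5 ≤ B.ncard := by
          rw [← hsupp, ← Set.ncard_coe_finset]
          exact Set.ncard_le_ncard hsupB (Set.toFinite _)
        have hdv := hB.ncard_dvd_card ⟨a, haB⟩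
        rw [Nat.card_eq_fintype_card, Fintype.card_fin] at hdv
        have hle := Nat.le_of_dvd (by norm_num) hdv
        apply (Set.eq_univ_iff_ncard B).mpr
        rw [Nat.card_eq_fintype_card, Fintype.card_fin]
        obtain ⟨t, ht⟩ := hdv
        have ht1 : t = 1 := by
          rcases Nat.lt_or_ge t 2 with h | h
          · interval_cases t <;> omega
          · have : B.ncard * 2 ≤ B.ncard * t := Nat.mul_le_mul_left _ h
            omega
        rw [ht1, mul_one] at ht
        omega
      · refine Or.inl ?_
        rw [← Set.ncard_le_one_iff_subsingleton]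
        set c : ↥f' := ⟨f g, g, rfl⟩ with hc
        have hoc : orderOf c = 5 := by rw [← Subgroup.orderOf_coe]; exact hfo
        have hdisj : ((Finset.range 5 : Finset ℕ) : Set ℕ).PairwiseDisjoint fun i => c ^ i • B := by
          intro i hi j hj hij
          refine hB fun e => ?_
          have hmem : ∀ m : ℕ, c ^ m • B = B → ¬ 5 ∣ m → False := by
            intro m hm hnd
            apply hcB
            obtain ⟨r, hr⟩ := exists_pow_eq_self_of_coprime (show Nat.Coprime m (orderOf c) by
              rw [hoc]; exact ((show Nat.Prime 5 by norm_num).coprime_iff_not_dvd.mpr hnd).symm)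
            rw [← hr]
            exact (MulAction.stabilizer ↥f' B).pow_mem hm r
          simp only [Finset.coe_range, Set.mem_Iio] at hi hj
          rcases Nat.lt_or_gt_of_ne hij with h | h
          · refine hmem (j - i) ?_ (fun hd => by have := Nat.le_of_dvd (by omega) hd; omega)
            apply MulAction.injective (c ^ i)
            show c ^ i • c ^ (j - i) • B = c ^ i • B
            rw [← mul_smul, ← pow_add, Nat.add_sub_cancel' h.le, e]
          · refine hmem (i - j) ?_ (fun hd => by have := Nat.le_of_dvd (by omega) hd; omega)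
            apply MulAction.injective (c ^ j)
            show c ^ j • c ^ (i - j) • B = c ^ j • B
            rw [← mul_smul, ← pow_add, Nat.add_sub_cancel' h.le, ← e]
        have hsum := Finset.card_biUnion (s := Finset.range 5) (t := fun i => (c ^ i • B).toFinset)
          (fun i hi j hj hij => Set.disjoint_toFinset.mpr (hdisj hi hj hij))
        simp only [← Set.ncard_eq_toFinset_card', Set.ncard_smul_set] at hsum
        rw [Finset.sum_const, Finset.card_range, smul_eq_mul] at hsum
        have h8 := Finset.card_le_univ ((Finset.range 5).biUnion fun i => (c ^ i • B).toFinset)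
        rw [hsum, Fintype.card_fin] at h8
        omega
    have hA8 : alternatingGroup (Fin 8) ≤ f' :=
      S0713.result f' hprim (by norm_num : Nat.Prime 5) (by simp) (by simp) hcyc hsupp ⟨g, rfl⟩
    have hdv := Subgroup.card_dvd_of_le hA8
    rw [nat_card_alternatingGroup, Nat.card_eq_fintype_card, Fintype.card_fin,
      ← Nat.card_congr (MonoidHom.ofInjective hf).toEquiv, hG] at hdv
    exact absurd hdv (by decide)

end Cfsg.Agent.H42.Radical
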