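import Cfsg.Agent.S3103
import Cfsg.Agent.H42.Radical.Model
import Cfsg.Agent.H42.Radical.Pair

/-! The action on the Frattini quotient of the 2-core, in coordinates. -/

set_option autoImplicit false

namespace Cfsg.Agent.H42.Radical

open Matrix
open scoped commutatorElement

theorem units_two : ∀ u : (ZMod 2)ˣ, u = 1 := by decide

/-- over the field of two elements `GL = SL` -/
def toSL {n : Type*} [Fintype n] [DecidableEq n] : GL n (ZMod 2) →* SpecialLinearGroup n (ZMod 2) where
  toFun M := ⟨(M : Matrix n n (ZMod 2)), congrArg Units.val (units_two (Matrix.GeneralLinearGroup.det M))⟩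
  map_one' := rfl
  map_mul' _ _ := rfl

theorem toSL_inj {n : Type*} [Fintype n] [DecidableEq n] : Function.Injective (toSL (n := n)) :=
  fun _ _ h => Units.ext (congrArg Subtype.val h)

theorem toSL_surj {n : Type*} [Fintype n] [DecidableEq n] : Function.Surjective (toSL (n := n)) :=
  fun M => ⟨⟨(M : Matrix n n (ZMod 2)), ((M⁻¹ : SpecialLinearGroup n (ZMod 2)) : Matrix n n (ZMod 2)),
    congrArg Subtype.val (mul_inv_cancel M), congrArg Subtype.val (inv_mul_cancel M)⟩, rfl⟩

/-- `X` acts on `P/Φ(P)` in coordinates with kernel `P`. -/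
theorem exists_action {X : Type*} [Group X] [Finite X] (hc : Cfsg.IsPConstrained 2 X) (hO : Cfsg.oddCore X = ⊥)
    (h4 : Cfsg.SectionalPRankLE 2 4 ↥(Cfsg.pCore 2 X)) :
    ∃ k ≤ 4, ∃ (π : ↥(Cfsg.pCore 2 X) → Fin k → ZMod 2) (ρ : X →* GL (Fin k) (ZMod 2)),
      (∀ a b, π (a * b) = π a + π b) ∧ Function.Surjective π ∧ ρ.ker = Cfsg.pCore 2 X ∧
      ∀ (x : X) (a : ↥(Cfsg.pCore 2 X)),
        π (MulAut.conjNormal x a) = (ρ x : Matrix (Fin k) (Fin k) (ZMod 2)) *ᵥ π a := by
  haveI : Fact (Nat.Prime 2) := ⟨Nat.prime_two⟩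
  set Q := Cfsg.pCore 2 X with hQdef
  have hQp : IsPGroup 2 Q := Cfsg.Agent.Cores.pCore_isPGroup
  have hCQ : Subgroup.centralizer (Q : Set X) ≤ Q :=
    (Cfsg.Agent.Cores.isPConstrained_iff_of_pPrimeCore_eq_bot hO).mp hc
  have hcomm : commutator Q ≤ frattini Q := Cfsg.Agent.PGroups.commutator_le_frattini hQp
  letI : CommGroup (Q ⧸ frattini Q) :=
    { (inferInstance : Group (Q ⧸ frattini Q)) with
      mul_comm := fun a c => by
        induction a using QuotientGroup.induction_on with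
        | H a =>
          induction c using QuotientGroup.induction_on with
          | H c =>
            show ((a * c : Q) : Q ⧸ frattini Q) = ((c * a : Q) : Q ⧸ frattini Q)
            rw [QuotientGroup.eq]
            refine hcomm ?_
            have : (a * c)⁻¹ * (c * a) = ⁅c⁻¹, a⁻¹⁆ := by rw [commutatorElement_def]; group
            rw [this]
            exact Subgroup.commutator_mem_commutator (Subgroup.mem_top _) (Subgroup.mem_top _) }
  have h2 : ∀ x : Q ⧸ frattini Q, x ^ 2 = 1 := fun x => by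
    induction x using QuotientGroup.induction_on with
    | H a => exact (QuotientGroup.eq_one_iff _).mpr (Cfsg.Agent.PGroups.pow_mem_frattini hQp a)
  have h16 : Nat.card (Q ⧸ frattini Q) ≤ 2 ^ 4 := by
    have h := h4 ⊤ ((frattini Q).subgroupOf ⊤)
    let π : (⊤ : Subgroup Q) →* Q ⧸ frattini Q := (QuotientGroup.mk' _).comp (Subgroup.subtype ⊤)
    have hπ : Function.Surjective π := fun y => by
      induction y using QuotientGroup.induction_on with
      | H a => exact ⟨⟨a, trivial⟩, rfl⟩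
    have hker : π.ker = (frattini Q).subgroupOf ⊤ := by
      ext a
      rw [MonoidHom.mem_ker, Subgroup.mem_subgroupOf]
      exact QuotientGroup.eq_one_iff _
    let e : ((⊤ : Subgroup Q) ⧸ (frattini Q).subgroupOf ⊤) ≃* Q ⧸ frattini Q :=
      (QuotientGroup.quotientMulEquivOfEq hker.symm).trans
        (QuotientGroup.quotientKerEquivOfSurjective π hπ)
    have h' := h ⊤ (.of_setLike_mul_comm fun a _ c _ => e.injective (by rw [map_mul, map_mul, mul_comm]))
      (fun a _ => e.injective (by rw [map_pow, map_one, h2]))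
    rwa [Subgroup.card_top, Nat.card_congr e.toEquiv] at h'
  obtain ⟨f₀, hf₀⟩ := Cfsg.Agent.S3103.aut_embeds h2 h16
  have hchar : ∀ a : MulAut Q, (frattini Q).map a.toMonoidHom = frattini Q := fun a =>
    Subgroup.characteristic_iff_map_eq.mp inferInstance a
  let bar : MulAut Q →* MulAut (Q ⧸ frattini Q) :=
    { toFun := fun a => QuotientGroup.congr _ _ a (hchar a)
      map_one' := MulEquiv.ext fun x => by
        induction x using QuotientGroup.induction_on with
        | H a => rfl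
      map_mul' := fun a c => MulEquiv.ext fun x => by
        induction x using QuotientGroup.induction_on with
        | H a => rfl }
  let σ : X →* MulAut (Q ⧸ frattini Q) := bar.comp MulAut.conjNormal
  have hρ : ∀ x, σ x = 1 → ∀ a : Q, x * (a : X) * x⁻¹ * (a : X)⁻¹ ∈ (frattini Q).map Q.subtype := by
    intro x hx a
    have h := congrArg (fun g : MulAut (Q ⧸ frattini Q) => g (a : Q ⧸ frattini Q)) hx
    have h' : ((MulAut.conjNormal x a : Q) : Q ⧸ frattini Q) = (a : Q ⧸ frattini Q) := h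
    rw [← div_eq_one, ← QuotientGroup.mk_div, QuotientGroup.eq_one_iff] at h'
    refine ⟨_, h', ?_⟩
    simp [div_eq_mul_inv, mul_assoc]
  have hker : σ.ker = Q := by
    apply le_antisymm
    · refine Cfsg.Agent.Cores.le_pCore ?_
      intro ⟨x, hx⟩
      set m := orderOf x with hm
      have hm0 : m ≠ 0 := (orderOf_pos x).ne'
      refine ⟨m.factorization 2, Subtype.ext ?_⟩
      show x ^ 2 ^ m.factorization 2 = 1
      set y := x ^ 2 ^ m.factorization 2 with hy
      have hyk : y ∈ σ.ker := pow_mem hx _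
      have hoy : (orderOf y).Coprime 2 := by
        rw [hy, orderOf_pow' _ (pow_ne_zero _ (by norm_num)), ← hm,
          Nat.gcd_eq_right (Nat.ordProj_dvd m 2)]
        exact (Nat.coprime_ordCompl Nat.prime_two hm0).symm
      have hA : Subgroup.zpowers y ≤ Subgroup.centralizer (Q : Set X) := by
        obtain ⟨k, hk⟩ := IsPGroup.iff_card.mp (hQp.to_subgroup (frattini Q))
        apply Cfsg.Agent.Coprime.le_centralizer_of_frattini
        · simp [Subgroup.normalizer_eq_top]
        · rw [Nat.card_zpowers, hk]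
          exact hoy.pow_right k
        · intro a ha u hu
          exact hρ a (Subgroup.zpowers_le.mpr hyk ha) ⟨u, hu⟩
      obtain ⟨j, hj⟩ := hQp ⟨y, hCQ (hA (Subgroup.mem_zpowers y))⟩
      have hj' : y ^ 2 ^ j = 1 := congrArg Subtype.val hj
      rw [← orderOf_eq_one_iff]
      exact Nat.Coprime.eq_one_of_dvd (hoy.pow_right j) (orderOf_dvd_of_pow_eq_one hj')
    · intro x hx
      refine MulEquiv.ext fun z => ?_
      induction z using QuotientGroup.induction_on with
      | H a =>
        show ((MulAut.conjNormal x a : Q) : Q ⧸ frattini Q) = (a : Q ⧸ frattini Q)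
        have hxa : MulAut.conjNormal x a = ⟨x, hx⟩ * a * ⟨x, hx⟩⁻¹ := Subtype.ext (by simp)
        rw [hxa, QuotientGroup.mk_mul, QuotientGroup.mk_mul, mul_comm (_ : Q ⧸ frattini Q) (a : Q ⧸ frattini Q),
          QuotientGroup.mk_inv, mul_inv_cancel_right]
  -- coordinates
  letI : Module (ZMod 2) (Additive (Q ⧸ frattini Q)) :=
    AddCommGroup.zmodModule fun x => h2 (Additive.toMul x)
  haveI : Finite (Additive (Q ⧸ frattini Q)) := inferInstanceAs (Finite (Q ⧸ frattini Q))
  set k := Module.finrank (ZMod 2) (Additive (Q ⧸ frattini Q)) with hk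
  have hk4 : k ≤ 4 := by
    refine (Nat.pow_le_pow_iff_right (a := 2) one_lt_two).mp (le_trans (le_of_eq ?_) h16)
    rw [show Nat.card (Q ⧸ frattini Q) = Nat.card (Additive (Q ⧸ frattini Q)) from rfl,
      Module.natCard_eq_pow_finrank (K := ZMod 2), Nat.card_zmod]
  let b := Module.finBasis (ZMod 2) (Additive (Q ⧸ frattini Q))
  let ψ : MulAut (Q ⧸ frattini Q) → (Additive (Q ⧸ frattini Q) →ₗ[ZMod 2] Additive (Q ⧸ frattini Q)) := fun g =>
    (MonoidHom.toAdditive g.toMonoidHom).toZModLinearMap 2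
  let M : MulAut (Q ⧸ frattini Q) → Matrix (Fin k) (Fin k) (ZMod 2) := fun g => LinearMap.toMatrix b b (ψ g)
  have hM : ∀ g h, M (g * h) = M g * M h := by
    intro g h
    show LinearMap.toMatrix b b _ = LinearMap.toMatrix b b _ * LinearMap.toMatrix b b _
    rw [← LinearMap.toMatrix_comp]
    congr 1
  have hM1 : M 1 = 1 := by
    show LinearMap.toMatrix b b _ = 1
    rw [show ψ 1 = LinearMap.id from LinearMap.ext fun x => rfl, LinearMap.toMatrix_id]
  let μ : MulAut (Q ⧸ frattini Q) →* GL (Fin k) (ZMod 2) :=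
    { toFun := fun g => ⟨M g, M g⁻¹, by rw [← hM, mul_inv_cancel, hM1], by rw [← hM, inv_mul_cancel, hM1]⟩
      map_one' := Units.ext hM1
      map_mul' := fun g h => Units.ext (hM g h) }
  have hμ : Function.Injective μ := fun g h e => MulEquiv.ext fun x =>
    congrArg Additive.toMul (LinearMap.congr_fun ((LinearMap.toMatrix b b).injective (congrArg Units.val e))
      (Additive.ofMul x))
  refine ⟨k, hk4, fun a => b.equivFun (Additive.ofMul (a : Q ⧸ frattini Q)), μ.comp σ, fun a c => ?_, ?_, ?_, ?_⟩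
  · rw [← map_add]; rfl
  · intro v
    obtain ⟨a, ha⟩ := QuotientGroup.mk_surjective (Additive.toMul (b.equivFun.symm v))
    refine ⟨a, ?_⟩
    show b.equivFun (Additive.ofMul (a : Q ⧸ frattini Q)) = v
    rw [ha]
    exact b.equivFun.apply_symm_apply v
  · refine (?_ : _ = σ.ker).trans hker
    ext x
    simp only [MonoidHom.mem_ker, MonoidHom.comp_apply]
    exact map_eq_one_iff _ hμ
  · intro x a
    exact (LinearMap.toMatrix_mulVec_repr b b (ψ (σ x)) (Additive.ofMul (a : Q ⧸ frattini Q))).symm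

/-- `S₆` and `A₈` do not occur when the sectional rank of `X` is at most four. -/
theorem not_six_eight {X : Type*} [Group X] [Finite X] (hc : Cfsg.IsPConstrained 2 X) (hO : Cfsg.oddCore X = ⊥)
    (h4 : Cfsg.SectionalPRankLE 2 4 ↥(Cfsg.pCore 2 X)) (hX : Cfsg.SectionalPRankLE 2 4 X)
    (hQ : Nonempty (X ⧸ Cfsg.pCore 2 X ≃* Equiv.Perm (Fin 6)) ∨ Nonempty (X ⧸ Cfsg.pCore 2 X ≃* alternatingGroup (Fin 8))) :
    False := by
  obtain ⟨k, hk, π, ρ, hadd, hsur, hker, heq⟩ := exists_action hc hO h4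
  have hcQ : Nat.card (X ⧸ (Cfsg.pCore 2 X)) = 720 ∨ Nat.card (X ⧸ (Cfsg.pCore 2 X)) = 20160 := by
    rcases hQ with ⟨⟨e⟩⟩ | ⟨⟨e⟩⟩
    · refine Or.inl ?_
      rw [Nat.card_congr e.toEquiv, Nat.card_perm, Nat.card_eq_fintype_card, Fintype.card_fin]; rfl
    · refine Or.inr ?_
      rw [Nat.card_congr e.toEquiv, nat_card_alternatingGroup, Nat.card_eq_fintype_card, Fintype.card_fin]; rfl
  obtain rfl : k = 4 := by
    by_contra hne
    have hd := Subgroup.card_subgroup_dvd_card ρ.range
    rw [← Nat.card_congr (QuotientGroup.quotientKerEquivRange ρ).toEquiv,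
      Nat.card_congr (QuotientGroup.quotientMulEquivOfEq hker).toEquiv, Matrix.card_GL_field, ZMod.card] at hd
    have hk3 : k ≤ 3 := by omega
    rcases hcQ with h | h <;> rw [h] at hd <;> interval_cases k <;> revert hd <;> decide +kernel
  set R : X →* SL4 := toSL.comp ρ with hR
  have hkerR : R.ker = (Cfsg.pCore 2 X) := by
    rw [← hker]
    ext x
    simp only [hR, MonoidHom.mem_ker, MonoidHom.comp_apply]
    exact map_eq_one_iff _ toSL_inj
  have hsign : ∀ M : SL4, Equiv.Perm.sign (phi M) = 1 := fun M =>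
    Equiv.Perm.mem_alternatingGroup.mp (phi_range.le ⟨M, rfl⟩)
  have hex : ∃ S : SL4, ∀ M : SL4, Keeps (M : M4) → S * M * S⁻¹ ∈ R.range := by
    rcases hQ with ⟨⟨e⟩⟩ | hQ
    · obtain ⟨f, hf, hfR⟩ : ∃ f : X ⧸ (Cfsg.pCore 2 X) →* SL4, Function.Injective f ∧ ∀ x, f x ∈ R.range := by
        refine ⟨QuotientGroup.lift (Cfsg.pCore 2 X) R hkerR.ge, ?_, fun x => ?_⟩
        · rw [← MonoidHom.ker_eq_bot_iff, QuotientGroup.ker_lift, hkerR, QuotientGroup.map_mk'_self]
        · induction x using QuotientGroup.induction_on with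
          | H x => exact ⟨x, rfl⟩
      obtain ⟨u, v, huv, hrange⟩ := pair_of_six e (phi.comp f) (phi_inj.comp hf) (fun g => hsign _)
      obtain ⟨p, q, hpq, hchi⟩ := exists_pair
      obtain ⟨σ, hσs, hσp, hσq⟩ : ∃ σ : Equiv.Perm (Fin 8), Equiv.Perm.sign σ = 1 ∧ σ p = u ∧ σ q = v := by
        obtain ⟨a, b, hab, hap, haq, hbp, hbq⟩ := (show ∀ p q : Fin 8, ∃ a b, a ≠ b ∧ a ≠ p ∧ a ≠ q ∧ b ≠ p ∧ b ≠ q
          by decide +kernel) p q
        set s := Equiv.swap (Equiv.swap p u q) v * Equiv.swap p u with hs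
        have hne : u ≠ Equiv.swap p u q := fun h => hpq ((Equiv.swap p u).injective
          ((Equiv.swap_apply_left p u).trans h))
        have h1 : s p = u := by
          rw [hs, Equiv.Perm.mul_apply, Equiv.swap_apply_left, Equiv.swap_apply_of_ne_of_ne hne huv]
        have h2 : s q = v := by rw [hs, Equiv.Perm.mul_apply, Equiv.swap_apply_left]
        rcases Int.units_eq_one_or (Equiv.Perm.sign s) with h | h
        · exact ⟨s, h, h1, h2⟩
        · refine ⟨s * Equiv.swap a b, by rw [map_mul, h, Equiv.Perm.sign_swap hab]; rfl, ?_, ?_⟩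
          · rw [Equiv.Perm.mul_apply, Equiv.swap_apply_of_ne_of_ne hap.symm hbp.symm, h1]
          · rw [Equiv.Perm.mul_apply, Equiv.swap_apply_of_ne_of_ne haq.symm hbq.symm, h2]
      obtain ⟨S, hS⟩ := phi_range.ge (Equiv.Perm.mem_alternatingGroup.mpr hσs)
      refine ⟨S, fun M hM => ?_⟩
      obtain ⟨x, hx⟩ := hrange (phi (S * M * S⁻¹)) (hsign _) (fun i hi => by
        rw [map_mul, map_mul, map_inv, hS, Equiv.Perm.mul_apply, Equiv.Perm.mul_apply]
        have hi' : σ⁻¹ i = p ∨ σ⁻¹ i = q := by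
          rcases hi with h | h
          · exact Or.inl (Equiv.Perm.inv_eq_iff_eq.mpr (h.trans hσp.symm))
          · exact Or.inr (Equiv.Perm.inv_eq_iff_eq.mpr (h.trans hσq.symm))
        rcases keeps_closed hchi hM _ hi' with h | h <;> rw [h]
        · exact Or.inl hσp
        · exact Or.inr hσq)
      exact phi_inj hx ▸ hfR x
    · refine ⟨1, fun M _ => ?_⟩
      have htop : R.range = ⊤ := by
        obtain ⟨e⟩ := hQ
        apply Subgroup.eq_top_of_card_eq
        rw [← Nat.card_congr (QuotientGroup.quotientKerEquivRange R).toEquiv,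
          Nat.card_congr (QuotientGroup.quotientMulEquivOfEq hkerR).toEquiv, phi_card, Nat.card_congr e.toEquiv,
          nat_card_alternatingGroup, Nat.card_eq_fintype_card, Fintype.card_fin]
        rfl
      rw [htop]
      exact Subgroup.mem_top _
  obtain ⟨S, hS⟩ := hex
  refine no_rank_four (Cfsg.pCore 2 X) ((MulAut.conj S⁻¹).toMonoidHom.comp R) ?_ (fun a => ((S⁻¹ : SL4) : M4) *ᵥ π a) ?_ ?_ ?_ ?_ hX
  · rw [← hkerR]
    ext x
    simp only [MonoidHom.mem_ker, MonoidHom.comp_apply]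
    exact map_eq_one_iff _ (MulAut.conj S⁻¹).injective
  · intro a b
    rw [hadd, Matrix.mulVec_add]
  · intro v
    obtain ⟨a, ha⟩ := hsur ((S : M4) *ᵥ v)
    refine ⟨a, ?_⟩
    show ((S⁻¹ : SL4) : M4) *ᵥ π a = v
    rw [ha, Matrix.mulVec_mulVec, ← Matrix.SpecialLinearGroup.coe_mul, inv_mul_cancel, Matrix.SpecialLinearGroup.coe_one,
      Matrix.one_mulVec]
  · intro x a
    show ((S⁻¹ : SL4) : M4) *ᵥ π (MulAut.conjNormal x a) = ((S⁻¹ * R x * S⁻¹⁻¹ : SL4) : M4) *ᵥ (((S⁻¹ : SL4) : M4) *ᵥ π a)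
    rw [heq, Matrix.mulVec_mulVec, Matrix.mulVec_mulVec, ← Matrix.SpecialLinearGroup.coe_mul (S⁻¹ * R x * S⁻¹⁻¹),
      show S⁻¹ * R x * S⁻¹⁻¹ * S⁻¹ = S⁻¹ * R x by group, Matrix.SpecialLinearGroup.coe_mul]
    rfl
  · intro M hM
    obtain ⟨x, hx⟩ := hS M hM
    exact ⟨x, show S⁻¹ * R x * S⁻¹⁻¹ = M by rw [hx]; group⟩

end Cfsg.Agent.H42.Radical
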