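import Cfsg.Agent.H56.SubAltEight
import Cfsg.Agent.Cores.PCore

/-! Nonsolvable subgroups of `A₈ ≅ GL₄(2)` with trivial 2-core. -/

set_option autoImplicit false

namespace Cfsg.Agent.H42.Radical

open Equiv Equiv.Perm
open Cfsg.Agent.H56.SubAltEight

universe u

theorem three_subgroup_trivial {T : Type*} [Group T] [Finite T]
    (hT : Nonempty (T ≃* alternatingGroup (Fin 5)) ∨ Nonempty (T ≃* Equiv.Perm (Fin 5)))
    (M : Subgroup T) (hM : M.Normal) (h3 : IsPGroup 3 M) : M = ⊥ := by
  haveI : Fact (Nat.Prime 3) := ⟨Nat.prime_three⟩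
  haveI := alternatingGroup.isSimpleGroup (α := Fin 5) (by rw [Nat.card_eq_fintype_card, Fintype.card_fin])
  have hA : Nat.card (alternatingGroup (Fin 5)) = 60 := by
    rw [nat_card_alternatingGroup, Nat.card_eq_fintype_card, Fintype.card_fin]; rfl
  have key : ∀ K : Subgroup (alternatingGroup (Fin 5)), K.Normal → IsPGroup 3 K → K = ⊥ := fun K hK h3K => by
    refine hK.eq_bot_or_eq_top.resolve_right fun h => ?_
    subst h
    obtain ⟨k, hk⟩ := IsPGroup.iff_card.mp h3K
    rw [Subgroup.card_top, hA] at hk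
    exact absurd (Nat.prime_three.dvd_of_dvd_pow (n := k) (hk ▸ (by norm_num : 3 ∣ 60))) (fun _ => by
      have h2 : 2 ∣ 3 ^ k := hk ▸ (by norm_num : 2 ∣ 60)
      exact absurd (Nat.prime_two.dvd_of_dvd_pow h2) (by norm_num))
  rcases hT with ⟨⟨e⟩⟩ | ⟨⟨e⟩⟩
  · have h := key (M.map e.toMonoidHom) (hM.map _ e.surjective) (h3.map _)
    exact (Subgroup.map_eq_bot_iff_of_injective _ e.injective).mp h
  · refine (Subgroup.map_eq_bot_iff_of_injective (f := e.toMonoidHom) _ e.injective).mp ?_
    haveI := hM.map e.toMonoidHom e.surjective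
    have h3' := h3.map e.toMonoidHom
    have hle : M.map e.toMonoidHom ≤ alternatingGroup (Fin 5) := fun s hs => by
      rw [Equiv.Perm.mem_alternatingGroup]
      obtain ⟨k, hk⟩ := h3' ⟨s, hs⟩
      have h1 : Equiv.Perm.sign s ^ 3 ^ k = 1 := by
        rw [← map_pow]
        exact (congrArg Equiv.Perm.sign (congrArg Subtype.val hk)).trans (map_one _)
      rcases Int.units_eq_one_or (Equiv.Perm.sign s) with h | h
      · exact h
      · rw [h, Odd.neg_one_pow (Odd.pow (by decide))] at h1
        exact absurd h1 (by decide)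
    have h := key ((M.map e.toMonoidHom).subgroupOf (alternatingGroup (Fin 5))) inferInstance
      (h3'.of_equiv (Subgroup.subgroupOfEquivOfLe hle).symm)
    rw [Subgroup.subgroupOf_eq_bot, disjoint_iff, inf_eq_left.mpr hle] at h
    exact h

theorem centralizer_card {c : Equiv.Perm (Fin 8)} {r : ℕ} (hr : r.Prime) (hc : orderOf c = r) :
    ∃ n : ℕ, c.cycleType = Multiset.replicate (n + 1) r ∧ (n + 1) * r ≤ 8 ∧
      Nat.card (Subgroup.centralizer {c}) = (8 - (n + 1) * r).factorial * r ^ (n + 1) * (n + 1).factorial := by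
  obtain ⟨n, hn⟩ := cycleType_prime_order (hc.symm ▸ hr : (orderOf c).Prime)
  rw [hc] at hn
  refine ⟨n, hn, ?_, ?_⟩
  · have h := c.support.card_le_univ
    rw [← sum_cycleType, hn, Multiset.sum_replicate, smul_eq_mul, Fintype.card_fin] at h
    exact h
  · rw [nat_card_centralizer, hn, Multiset.toFinset_replicate, if_neg (Nat.succ_ne_zero n),
      Multiset.sum_replicate, Multiset.prod_replicate, Finset.prod_singleton, Multiset.count_replicate_self,
      smul_eq_mul, Fintype.card_fin]

/-- A solvable minimal normal subgroup, made explicit. -/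
theorem exists_elementary {Q : Type u} [Group Q] [Finite Q] (h : ¬ CoreFree Q) :
    ∃ (N : Subgroup Q) (r : ℕ), N.Normal ∧ N ≠ ⊥ ∧ r.Prime ∧
      (∀ x ∈ N, ∀ y ∈ N, x * y = y * x) ∧ ∀ x ∈ N, x ^ r = 1 := by
  classical
  simp only [CoreFree, not_forall] at h
  obtain ⟨N₀, hN₀, hs₀, hne₀⟩ := h
  have hex : ∃ m, ∃ N : Subgroup Q, N.Normal ∧ Group.IsSolvable N ∧ N ≠ ⊥ ∧ Nat.card N = m :=
    ⟨_, N₀, hN₀, hs₀, hne₀, rfl⟩
  obtain ⟨N, hN, hs, hne, hcard⟩ := Nat.find_spec hex
  have hmin : ∀ K : Subgroup Q, K.Normal → K ≤ N → K ≠ N → K = ⊥ := fun K hK hKN hKne => by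
    by_contra hK0
    haveI := hs
    have hKs : Group.IsSolvable K := Group.isSolvable_of_isSolvable_injective (Subgroup.inclusion_injective hKN)
    have h1 := Nat.find_min' hex ⟨K, hK, hKs, hK0, rfl⟩
    rw [← hcard] at h1
    exact hKne (Subgroup.eq_of_le_of_card_ge hKN h1)
  haveI := hN
  haveI := hs
  haveI : Nontrivial N := (Subgroup.nontrivial_iff_ne_bot N).mpr hne
  have hcomm : ⁅N, N⁆ = ⊥ := by
    refine hmin _ inferInstance (Subgroup.commutator_le_self N) fun h => ?_
    have h1 := Group.IsSolvable.commutator_lt_top_of_nontrivial (G := N)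
    refine h1.ne (Subgroup.map_injective N.subtype_injective ?_)
    rw [Subgroup.map_subtype_commutator, h]
    exact (MonoidHom.range_eq_map N.subtype).symm.trans N.range_subtype |>.symm
  have hab : ∀ x ∈ N, ∀ y ∈ N, x * y = y * x := fun x hx y hy => by
    have h := Subgroup.commutator_mem_commutator hx hy
    rw [hcomm, Subgroup.mem_bot] at h
    exact commutatorElement_eq_one_iff_commute.mp h
  obtain ⟨r, hr, hdvd⟩ := Nat.exists_prime_and_dvd (n := Nat.card N) (by
    intro h
    exact hne (Subgroup.card_eq_one.mp h))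
  haveI : Fact r.Prime := ⟨hr⟩
  obtain ⟨x, hx⟩ := exists_prime_orderOf_dvd_card' (G := N) r hdvd
  let K : Subgroup Q :=
    { carrier := {y | y ∈ N ∧ y ^ r = 1}
      one_mem' := ⟨one_mem _, one_pow _⟩
      mul_mem' := fun {a b} ha hb => ⟨mul_mem ha.1 hb.1, by
        rw [(show Commute a b from hab a ha.1 b hb.1).mul_pow, ha.2, hb.2, one_mul]⟩
      inv_mem' := fun {a} ha => ⟨inv_mem ha.1, by rw [inv_pow, ha.2, inv_one]⟩ }
  have hK : K.Normal := ⟨fun n hn g => ⟨hN.conj_mem n hn.1 g, by rw [conj_pow, hn.2, mul_one, mul_inv_cancel]⟩⟩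
  have hKN : K = N := by
    by_contra hne'
    have hmem : (x : Q) ∈ K := ⟨x.2, by rw [← hx, ← Subgroup.orderOf_coe]; exact pow_orderOf_eq_one _⟩
    rw [hmin K hK (fun y hy => hy.1) hne', Subgroup.mem_bot] at hmem
    rw [← Subgroup.orderOf_coe, hmem, orderOf_one] at hx
    exact hr.one_lt.ne hx
  exact ⟨N, r, hN, hne, hr, hab, fun y hy => ((hKN.ge hy : y ∈ K)).2⟩

theorem radical_case {Q : Type u} [Group Q] [Finite Q] (hns : ¬ Group.IsSolvable Q)
    (f : Q →* Equiv.Perm (Fin 8)) (hf : Function.Injective f) (hsign : ∀ g, Equiv.Perm.sign (f g) = 1)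
    (h2 : Cfsg.pCore 2 Q = ⊥) (hnc : ¬ CoreFree Q) :
    Nat.card (Cfsg.pCore 3 Q) = 3 ∧
      (Nonempty (Q ⧸ Cfsg.pCore 3 Q ≃* alternatingGroup (Fin 5)) ∨
        Nonempty (Q ⧸ Cfsg.pCore 3 Q ≃* Equiv.Perm (Fin 5))) := by
  classical
  have hdQ : Nat.card Q ∣ 20160 := by
    have h := Subgroup.card_dvd_of_injective (f.codRestrict (alternatingGroup (Fin 8)) fun g => hsign g)
      (fun a b e => hf (congrArg Subtype.val e))
    rwa [nat_card_alternatingGroup, Nat.card_eq_fintype_card (α := Fin 8), Fintype.card_fin,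
      show (8 : ℕ).factorial / 2 = 20160 from rfl] at h
  obtain ⟨N, r, hN, hne, hr, hab, hexp⟩ := exists_elementary hnc
  haveI := hN
  haveI : Fact r.Prime := ⟨hr⟩
  have hNp : IsPGroup r N := fun x => ⟨1, Subtype.ext (by simpa using hexp x x.2)⟩
  obtain ⟨k, hk⟩ := IsPGroup.iff_card.mp hNp
  have hk0 : k ≠ 0 := fun h => hne (Subgroup.card_eq_one.mp (by rw [hk, h, pow_zero]))
  have hrk : r ^ k ∣ 20160 := hk ▸ (Subgroup.card_subgroup_dvd_card N).trans hdQ
  have hr8 : r ≤ 7 ∧ r ≠ 2 := by
    refine ⟨?_, fun h => ?_⟩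
    · have h := (dvd_pow_self r hk0).trans hrk
      rw [show (20160 : ℕ) = 2 ^ 6 * 3 ^ 2 * (5 * 7) from rfl] at h
      rcases hr.dvd_mul.mp h with h | h
      · rcases hr.dvd_mul.mp h with h | h
        · exact (Nat.le_of_dvd (by norm_num) (hr.dvd_of_dvd_pow h)).trans (by norm_num)
        · exact (Nat.le_of_dvd (by norm_num) (hr.dvd_of_dvd_pow h)).trans (by norm_num)
      · rcases hr.dvd_mul.mp h with h | h <;> exact (Nat.le_of_dvd (by norm_num) h).trans (by norm_num)
    · subst h
      exact hne (le_bot_iff.mp (h2 ▸ Cfsg.Agent.Cores.le_pCore hNp))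
  have hk2 : k ≤ 2 := by
    by_contra h
    have h3 := (pow_dvd_pow r (show 3 ≤ k by omega)).trans hrk
    rcases hr8 with ⟨h7, hne2⟩
    have h2' := hr.two_le
    interval_cases r <;> first | omega | (revert hr; norm_num; done) | (revert h3; norm_num; done)
  obtain ⟨c', hc'⟩ := exists_prime_orderOf_dvd_card' (G := N) r (hk ▸ dvd_pow_self r hk0)
  set c : Q := (c' : Q) with hcdef
  have hco : orderOf c = r := by rw [hcdef, Subgroup.orderOf_coe, hc']
  have hfc : orderOf (f c) = r := by rw [orderOf_injective f hf, hco]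
  have hk1 : k = 1 := by
    by_contra hk1
    have hk22 : k = 2 := by omega
    have hr3 : r = 3 := by
      rcases hr8 with ⟨h7, hne2⟩
      have h2' := hr.two_le
      rw [hk22] at hrk
      interval_cases r <;> first | omega | (revert hr; norm_num; done) | (revert hrk; norm_num; done)
    subst hr3
    subst hk22
    obtain ⟨p, hp, hp5, hp7, hpd⟩ : ∃ p : ℕ, p.Prime ∧ 5 ≤ p ∧ p ≤ 7 ∧ p ∣ Nat.card Q := by
      by_cases h5 : 5 ∣ Nat.card Q
      · exact ⟨5, by norm_num, le_rfl, by norm_num, h5⟩
      · refine ⟨7, by norm_num, by norm_num, le_rfl, ?_⟩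
        exact dvd_of_not_solvable hns Nat.prime_two Nat.prime_three (by norm_num : Nat.Prime 7)
          (a := 6) (b := 2) (c := 1) (((show Nat.Prime 5 by norm_num).coprime_iff_not_dvd.mpr h5).symm.dvd_of_dvd_mul_left
            (hdQ.trans (by norm_num : 20160 ∣ 5 * (2 ^ 6 * 3 ^ 2 * 7 ^ 1))))
    haveI : Fact p.Prime := ⟨hp⟩
    obtain ⟨g, hg⟩ := exists_prime_orderOf_dvd_card' (G := Q) p hpd
    set α : MulAut N := MulAut.conjNormal g with hα
    have hα1 : α = 1 := by
      by_contra hne'
      haveI : Fintype N := Fintype.ofFinite _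
      let σ : Equiv.Perm N := α.toEquiv
      have hσ1 : σ ≠ 1 := fun h => hne' (MulEquiv.ext fun x => Equiv.congr_fun h x)
      have hσp : σ ^ p = 1 := by
        have : α ^ p = 1 := by rw [hα, ← map_pow, ← hg, pow_orderOf_eq_one, map_one]
        exact (map_pow (MonoidHom.mk' (fun β : MulAut N => (β.toEquiv : Equiv.Perm N)) fun _ _ => rfl) α p).symm.trans
          (congrArg MulEquiv.toEquiv this)
      have hσo : orderOf σ = p := orderOf_eq_prime hσp hσ1
      obtain ⟨n, hn⟩ := cycleType_prime_order (hσo.symm ▸ hp : (orderOf σ).Prime)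
      have hsupp : σ.support.card = (n + 1) * p := by
        rw [← sum_cycleType, hn, Multiset.sum_replicate, smul_eq_mul, hσo]
      have h9 : Fintype.card N = 9 := by rw [← Nat.card_eq_fintype_card, hk]; rfl
      have hle : (n + 1) * p ≤ 9 := hsupp ▸ h9 ▸ Finset.card_le_univ _
      have hn0 : n = 0 := by
        by_contra h
        have : 2 * 5 ≤ (n + 1) * p := Nat.mul_le_mul (by omega) hp5
        omega
      subst hn0
      let F : Subgroup N := α.toMonoidHom.eqLocus (MonoidHom.id _)
      have hF : Nat.card F = 9 - p := by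
        rw [Nat.card_eq_fintype_card]
        have h1 : Fintype.card F = σ.supportᶜ.card := by
          rw [Fintype.card_of_subtype]
          intro x
          rw [Finset.mem_compl, notMem_support]
          rfl
        rw [h1, Finset.card_compl, h9, hsupp, zero_add, one_mul]
      have hdv := Subgroup.card_subgroup_dvd_card F
      rw [hF, hk] at hdv
      interval_cases p <;> first | omega | (revert hp; norm_num; done) | (revert hdv; norm_num; done)
    have hcen : ∀ x : N, Commute (f x) (f g) := fun x => by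
      have h : g * x * g⁻¹ = x := by
        have := congrArg (fun β : MulAut N => ((β x : N) : Q)) hα1
        simpa [hα] using this
      exact (show Commute (x : Q) g from (mul_inv_eq_iff_eq_mul.mp h).symm).map f
    let i : N →* Subgroup.centralizer {f g} := MonoidHom.mk' (fun x => ⟨f x, Subgroup.mem_centralizer_singleton_iff.mpr
      (hcen x).eq⟩) fun x y => Subtype.ext (map_mul f (x : Q) y)
    have hdv := Subgroup.card_dvd_of_injective i fun x y e => Subtype.ext (hf (congrArg Subtype.val e))
    obtain ⟨n, -, hle, hcc⟩ := centralizer_card hp (by rw [orderOf_injective f hf, hg])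
    have hn0 : n = 0 := by
      by_contra h
      have : 2 * 5 ≤ (n + 1) * p := Nat.mul_le_mul (by omega) hp5
      omega
    subst hn0
    rw [hcc, hk] at hdv
    interval_cases p <;> first | omega | (revert hp; norm_num; done) | (exact absurd hdv (by decide))
  subst hk1
  rw [pow_one] at hk
  haveI : IsCyclic N := isCyclic_of_prime_card hk
  let conj : Q →* MulAut N := MulAut.conjNormal
  have hCns : ¬ Group.IsSolvable conj.ker := fun h => by
    haveI := h
    haveI : Group.IsSolvable (MulAut N) := Group.isSolvable_of_isSolvable_injective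
      (f := (IsCyclic.mulAutMulEquiv N).toMonoidHom) (IsCyclic.mulAutMulEquiv N).injective
    exact hns (Group.isSolvable_of_ker_le_range conj.ker.subtype conj (by rw [Subgroup.range_subtype]))
  let i : conj.ker →* Subgroup.centralizer {f c} := MonoidHom.mk' (fun x => ⟨f x, Subgroup.mem_centralizer_singleton_iff.mpr (by
      have h := congrArg (fun β : MulAut N => ((β c' : N) : Q)) (MonoidHom.mem_ker.mp x.2)
      have h' : (x : Q) * c * (x : Q)⁻¹ = c := by simpa [conj] using h
      exact ((show Commute (x : Q) c from mul_inv_eq_iff_eq_mul.mp h').map f).eq)⟩)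
    fun x y => Subtype.ext (map_mul f (x : Q) y)
  have hCdvd := Subgroup.card_dvd_of_injective i fun x y e => Subtype.ext (hf (congrArg Subtype.val e))
  obtain ⟨n, hct, hle, hcc⟩ := centralizer_card hr hfc
  rw [hcc] at hCdvd
  have hr3 : r = 3 ∧ n = 0 := by
    rcases hr8 with ⟨h7, hne2⟩
    have h2' := hr.two_le
    have hn : n + 1 ≤ (n + 1) * r := Nat.le_mul_of_pos_right _ hr.pos
    interval_cases r <;> first | omega | (revert hr; norm_num; done) | skip
    · refine ⟨rfl, ?_⟩
      by_contra h0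
      obtain rfl : n = 1 := by omega
      exact hCns (isSolvable_of_dvd_two Nat.prime_two Nat.prime_three (a := 2) (b := 2) (hCdvd.trans (by decide)))
    · obtain rfl : n = 0 := by omega
      exact absurd (isSolvable_of_squarefree ((show Squarefree 30 by decide +kernel).squarefree_of_dvd
        (hCdvd.trans (by decide)))) hCns
    · obtain rfl : n = 0 := by omega
      exact absurd (isSolvable_of_squarefree ((show Squarefree 7 by decide +kernel).squarefree_of_dvd
        (hCdvd.trans (by decide)))) hCns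
  obtain ⟨rfl, rfl⟩ := hr3
  set S : Finset (Fin 8) := (f c).support with hS
  have hS3 : S.card = 3 := by rw [hS, ← sum_cycleType, hct]; rfl
  have hzp : Subgroup.zpowers c = N := Subgroup.eq_of_le_of_card_ge (Subgroup.zpowers_le.mpr c'.2)
    (by rw [Nat.card_zpowers, hco, hk])
  have hpres : ∀ (g : Q) (x : Fin 8), f g x ∉ S ↔ x ∉ S := by
    intro g x
    have hmem : g * c * g⁻¹ ∈ Subgroup.zpowers c := hzp.ge (hN.conj_mem c c'.2 g)
    obtain ⟨i, hi, he⟩ := (IsOfFinOrder.mem_zpowers_iff_mem_range_orderOf (isOfFinOrder_of_finite c)).mp hmem |>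
      Finset.mem_image.mp
    rw [Finset.mem_range, hco] at hi
    have hsupp : (f (g * c * g⁻¹)).support = S := by
      rw [← he]
      interval_cases i
      · exfalso
        rw [pow_zero, eq_comm, conj_eq_one_iff] at he
        rw [he, orderOf_one] at hco
        exact absurd hco (by norm_num)
      · rw [pow_one]
      · have h2c : c ^ 2 = c⁻¹ := eq_inv_of_mul_eq_one_left (by rw [← pow_succ, show 2 + 1 = orderOf c from hco.symm, pow_orderOf_eq_one])
        rw [h2c, map_inv, support_inv]
    rw [map_mul, map_mul, map_inv, support_conj] at hsupp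
    constructor
    · intro h hx
      exact h (hsupp ▸ Finset.mem_map_of_mem (f g).toEmbedding hx)
    · intro h hx
      rw [← hsupp, Finset.mem_map] at hx
      obtain ⟨y, hy, hyx⟩ := hx
      exact h ((f g).injective hyx ▸ hy)
  let ψ : Q →* Equiv.Perm {x // x ∉ S} := MonoidHom.mk' (fun h => (f h).subtypePerm (hpres h)) fun u v =>
    Equiv.ext fun x => Subtype.ext (by
      show f (u * v) x.1 = _
      rw [map_mul]; rfl)
  have hkerψ : ψ.ker = N := by
    have hpS : ∀ (h : Q) (x : Fin 8), f h x ∈ S ↔ x ∈ S := fun h x => not_iff_not.mp (hpres h x)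
    have hfix : ∀ (h : ψ.ker) (x : Fin 8), x ∉ S → f (h : Q) x = x := fun h x hx =>
      congrArg Subtype.val (Equiv.congr_fun (MonoidHom.mem_ker.mp h.2) ⟨x, hx⟩)
    let χ : ψ.ker →* alternatingGroup {x // x ∈ S} := MonoidHom.mk'
      (fun h => ⟨(f (h : Q)).subtypePerm (hpS h), Equiv.Perm.mem_alternatingGroup.mpr
        (by convert (Equiv.Perm.sign_subtypePerm (f (h : Q)) (hpS h)
          (fun x hx => by_contra fun h' => hx (hfix h x h'))).trans (hsign _))⟩)
      fun u v => Subtype.ext (Equiv.ext fun x => Subtype.ext (by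
        show f ((u : Q) * v) x.1 = _
        rw [map_mul]; rfl))
    have hχ : Function.Injective χ := (injective_iff_map_eq_one _).mpr fun h hh => by
      refine Subtype.ext (hf ?_)
      show f (h : Q) = f (1 : Q)
      rw [map_one f]
      refine Equiv.ext fun x => ?_
      by_cases hx : x ∈ S
      · exact congrArg Subtype.val (Equiv.congr_fun (congrArg Subtype.val hh) ⟨x, hx⟩)
      · exact hfix h x hx
    have hd := Subgroup.card_dvd_of_injective χ hχ
    haveI : Nontrivial {x // x ∈ S} := Fintype.one_lt_card_iff_nontrivial.mp (by rw [Fintype.card_coe, hS3]; norm_num)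
    rw [nat_card_alternatingGroup, Nat.card_eq_fintype_card (α := {x // x ∈ S}), Fintype.card_coe, hS3] at hd
    refine (Subgroup.eq_of_le_of_card_ge (fun y hy => ?_) ?_).symm
    · obtain ⟨m, rfl⟩ := Subgroup.mem_zpowers_iff.mp (hzp.ge hy)
      refine MonoidHom.mem_ker.mpr ?_
      rw [map_zpow]
      have : ψ c = 1 := Equiv.ext fun x => Subtype.ext (notMem_support.mp x.2)
      rw [this, one_zpow]
    · rw [hk]
      exact Nat.le_of_dvd (by norm_num) (hd.trans (by decide))
  have hRns : ¬ Group.IsSolvable ψ.range := fun h => by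
    haveI := h
    have hNs : Group.IsSolvable N := by
      haveI := hab
      exact Group.isSolvable_of_comm fun a b => Subtype.ext (hab a a.2 b b.2)
    haveI := hNs
    exact hns (Group.isSolvable_of_ker_le_range N.subtype ψ.rangeRestrict
      (by rw [MonoidHom.ker_rangeRestrict, hkerψ, Subgroup.range_subtype]))
  have hS5 : Fintype.card {x // x ∉ S} = 5 := by
    rw [Fintype.card_subtype_compl, Fintype.card_coe, Fintype.card_fin, hS3]
  have hiso := five_points hS5 ψ.range hRns
  haveI : Fact (Nat.Prime 3) := ⟨Nat.prime_three⟩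
  have hM : Cfsg.pCore 3 Q = N := by
    refine le_antisymm ?_ (Cfsg.Agent.Cores.le_pCore hNp)
    have h := three_subgroup_trivial hiso ((Cfsg.pCore 3 Q).map ψ.rangeRestrict)
      (Subgroup.Normal.map inferInstance _ ψ.rangeRestrict_surjective)
      (Cfsg.Agent.Cores.pCore_isPGroup.map _)
    rw [Subgroup.map_eq_bot_iff, MonoidHom.ker_rangeRestrict, hkerψ] at h
    exact h
  refine ⟨by rw [hM, hk], ?_⟩
  let e : Q ⧸ Cfsg.pCore 3 Q ≃* ψ.range :=
    (QuotientGroup.quotientMulEquivOfEq (hM.trans hkerψ.symm)).trans (QuotientGroup.quotientKerEquivRange ψ)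
  rcases hiso with ⟨⟨e'⟩⟩ | ⟨⟨e'⟩⟩
  · exact Or.inl ⟨e.trans e'⟩
  · exact Or.inr ⟨e.trans e'⟩

end Cfsg.Agent.H42.Radical
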