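import Cfsg.Prelude.Def_CaseTheorems
import Cfsg.Agent.H27.EightPoints

/-! A section of rank five above `Sp₄(2)` acting on a 2-group. -/

set_option autoImplicit false

namespace Cfsg.Agent.H42.Radical

open Matrix Cfsg.Agent.H27.EightPoints

abbrev M4 := Matrix (Fin 4) (Fin 4) (ZMod 2)
abbrev SL4 := SpecialLinearGroup (Fin 4) (ZMod 2)
abbrev V4 := Fin 4 → ZMod 2
abbrev T3 := ZMod 2 × ZMod 2 × ZMod 2

/-- the standard symplectic form -/
def J : V6 := ![0, 1, 0, 0, 1, 0]

/-- preservation of the form -/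
def Keeps (M : M4) : Prop := coords (M * alt J * Mᵀ) = J

instance (M : M4) : Decidable (Keeps M) := inferInstanceAs (Decidable (_ = _))

/-- the Siegel radical -/
def radMat (s : T3) : M4 := !![1, 0, s.1, s.2.1; 0, 1, s.2.1, s.2.2; 0, 0, 1, 0; 0, 0, 0, 1]

theorem radMat_det : ∀ s : T3, (radMat s).det = 1 := by decide +kernel
theorem radMat_mul : ∀ s t : T3, radMat s * radMat t = radMat (s + t) := by decide +kernel
theorem radMat_keeps : ∀ s : T3, Keeps (radMat s) := by decide +kernel
theorem radMat_inj : ∀ s t : T3, radMat s = radMat t → s = t := by decide +kernel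
theorem radMat_zero : radMat 0 = 1 := by decide +kernel

/-- the radical as a homomorphism -/
def radHom : Multiplicative T3 →* SL4 where
  toFun s := ⟨radMat (Multiplicative.toAdd s), radMat_det _⟩
  map_one' := Subtype.ext radMat_zero
  map_mul' s t := Subtype.ext (radMat_mul _ _).symm

/-- an element commuting with a radical element -/
def aux (s : T3) : M4 :=
  if s = (1, 0, 0) then !![1, 0, 0, 0; 0, 0, 0, 1; 0, 0, 1, 0; 0, 1, 0, 1]
  else if s = (0, 0, 1) then !![0, 0, 1, 0; 0, 1, 0, 0; 1, 0, 1, 0; 0, 0, 0, 1]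
  else if s = (1, 1, 1) then !![1, 0, 0, 0; 1, 0, 0, 1; 1, 1, 1, 0; 1, 1, 0, 1]
  else 1

theorem aux_det : ∀ s : T3, (aux s).det = 1 := by decide +kernel
theorem aux_keeps : ∀ s : T3, Keeps (aux s) := by decide +kernel
theorem aux_comm : ∀ s : T3, radMat s * aux s = aux s * radMat s := by decide +kernel

theorem square_low : ∀ s : T3, s ≠ 0 → ∀ a b c d : ZMod 2,
    (radMat s *ᵥ ![a, b, c, d] = ![a, b, c, d]) →
    ∀ e f g h : ZMod 2, (aux s *ᵥ ![a, b, c, d] = radMat s *ᵥ ![e, f, g, h] + ![a, b, c, d] + ![e, f, g, h]) →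
    c = 0 ∧ d = 0 := by
  decide +kernel

theorem radMat_low : ∀ s : T3, ∀ a b c d : ZMod 2,
    (radMat s *ᵥ ![a, b, c, d]) 2 = c ∧ (radMat s *ᵥ ![a, b, c, d]) 3 = d := by
  decide +kernel

theorem vec4' (v : V4) : ![v 0, v 1, v 2, v 3] = v := vec4 v

/-- The rank five section. -/
theorem no_rank_four {X : Type*} [Group X] [Finite X] (P : Subgroup X) [P.Normal]
    (ρ : X →* SL4) (hker : ρ.ker = P) (π : ↥P → V4)
    (hadd : ∀ a b, π (a * b) = π a + π b) (hsur : Function.Surjective π)
    (heq : ∀ (x : X) (a : P), π (MulAut.conjNormal x a) = (ρ x : M4) *ᵥ π a)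
    (hK : ∀ M : SL4, Keeps (M : M4) → M ∈ ρ.range) :
    ¬ Cfsg.SectionalPRankLE 2 4 X := by
  intro h4
  let low : ↥P →* Multiplicative (ZMod 2 × ZMod 2) :=
    MonoidHom.mk' (fun a => Multiplicative.ofAdd (π a 2, π a 3)) fun a b => by
      rw [hadd]; rfl
  have hlow : Function.Surjective low := fun y => by
    obtain ⟨a, ha⟩ := hsur ![0, 0, (Multiplicative.toAdd y).1, (Multiplicative.toAdd y).2]
    refine ⟨a, ?_⟩
    show Multiplicative.ofAdd (π a 2, π a 3) = y
    rw [ha]; rfl
  let N : Subgroup X := low.ker.map P.subtype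
  have hNP : N ≤ P := Subgroup.map_subtype_le _
  let E : Subgroup SL4 := radHom.range
  let H : Subgroup X := E.comap ρ
  have hPH : P ≤ H := fun x hx => by
    show ρ x ∈ E
    rw [show ρ x = 1 from hker.ge hx]
    exact one_mem _
  have hE : E ≤ ρ.range := by
    rintro _ ⟨s, rfl⟩
    exact hK _ (radMat_keeps _)
  have hEc : Nat.card E = 8 := by
    rw [show Nat.card E = Nat.card (Multiplicative T3) from
      (Nat.card_congr (MonoidHom.ofInjective (f := radHom) fun s t e =>
        Multiplicative.toAdd.injective (radMat_inj _ _ (congrArg Subtype.val e))).toEquiv).symm]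
    simp
  have hPN : N.relIndex P = 4 := by
    rw [show N.relIndex P = (N.subgroupOf P).index from rfl,
      show N.subgroupOf P = low.ker from Subgroup.comap_map_eq_self_of_injective P.subtype_injective _,
      Subgroup.index_ker, MonoidHom.range_eq_top.mpr hlow, Subgroup.card_top]
    simp
  have hHP : P.relIndex H = 8 := by
    rw [← hker, Subgroup.relIndex_ker, Subgroup.map_comap_eq_self hE, hEc]
  have hmemN : ∀ a : P, π a 2 = 0 → π a 3 = 0 → (a : X) ∈ N := fun a h2 h3 => by
    refine ⟨a, ?_, rfl⟩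
    show Multiplicative.ofAdd (π a 2, π a 3) = 1
    rw [h2, h3]; rfl
  have hN' : (N.subgroupOf H).Normal := ⟨fun n hn x => by
    obtain ⟨a, ha, hax⟩ := Subgroup.mem_subgroupOf.mp hn
    obtain ⟨s, hs⟩ := x.2
    have hlo : π a 2 = 0 ∧ π a 3 = 0 := by
      have := congrArg Multiplicative.toAdd (show Multiplicative.ofAdd (π a 2, π a 3) = 1 from ha)
      exact Prod.ext_iff.mp this
    have e := heq (x : X) a
    rw [← hs] at e
    obtain ⟨e2, e3⟩ := radMat_low (Multiplicative.toAdd s) (π a 0) (π a 1) (π a 2) (π a 3)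
    rw [vec4' (π a)] at e2 e3
    have := hmemN (MulAut.conjNormal (x : X) a) (by rw [e]; exact e2.trans hlo.1) (by rw [e]; exact e3.trans hlo.2)
    rw [Subgroup.mem_subgroupOf]
    rw [MulAut.conjNormal_apply, show ((a : X)) = (n : X) from hax] at this
    exact this⟩
  have hsq : ∀ x : H, (x : X) * x ∈ N := by
    intro x
    obtain ⟨s, hs⟩ := x.2
    have hxx : (x : X) * x ∈ P := by
      rw [← hker, MonoidHom.mem_ker, map_mul, ← hs, ← map_mul]
      have : s * s = 1 := by
        revert s; intro s _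
        show Multiplicative.ofAdd (Multiplicative.toAdd s + Multiplicative.toAdd s) = 1
        rw [show ∀ t : T3, t + t = 0 by decide]
        rfl
      rw [this, map_one]
    set q : P := ⟨(x : X) * x, hxx⟩
    by_cases hs0 : Multiplicative.toAdd s = 0
    · have hxP : (x : X) ∈ P := by
        rw [← hker, MonoidHom.mem_ker, ← hs]
        rw [show s = 1 from Multiplicative.toAdd.injective hs0, map_one]
      have hq : π q = π ⟨x, hxP⟩ + π ⟨x, hxP⟩ := hadd ⟨x, hxP⟩ ⟨x, hxP⟩
      have hz : ∀ t : ZMod 2, t + t = 0 := by decide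
      exact hmemN q (by rw [hq, Pi.add_apply, hz]) (by rw [hq, Pi.add_apply, hz])
    set e : M4 := radMat (Multiplicative.toAdd s) with he
    have hρx : (ρ (x : X) : M4) = e := by rw [← hs]; rfl
    obtain ⟨y, hy⟩ := hK ⟨aux (Multiplicative.toAdd s), aux_det _⟩ (aux_keeps _)
    have hfix : e *ᵥ π q = π q := by
      rw [← hρx, ← heq]
      congr 1
      exact Subtype.ext (by rw [MulAut.conjNormal_apply]; show (x : X) * (x * x) * (x : X)⁻¹ = x * x; group)
    have haP : (x : X)⁻¹ * (y * x * y⁻¹) ∈ P := by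
      rw [← hker, MonoidHom.mem_ker, map_mul, map_mul, map_mul, map_inv, map_inv, inv_mul_eq_one,
        ← hs, hy]
      refine eq_mul_inv_of_mul_eq ?_
      exact Subtype.ext (aux_comm _)
    set a : P := ⟨_, haP⟩
    have hconj : MulAut.conjNormal y q = MulAut.conjNormal (x : X) a * q * a := by
      refine Subtype.ext ?_
      simp only [MulAut.conjNormal_apply, Subgroup.coe_mul]
      show y * ((x : X) * x) * y⁻¹ = (x : X) * ((x : X)⁻¹ * (y * x * y⁻¹)) * (x : X)⁻¹ * (x * x) *
        ((x : X)⁻¹ * (y * x * y⁻¹))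
      group
    have heq2 : aux (Multiplicative.toAdd s) *ᵥ π q = e *ᵥ π a + π q + π a := by
      have h := congrArg π hconj
      rw [hadd, hadd, heq, heq, hρx, hy] at h
      exact h
    obtain ⟨h2, h3⟩ := square_low _ hs0 (π q 0) (π q 1) (π q 2) (π q 3) (by rw [vec4']; exact hfix)
      (π a 0) (π a 1) (π a 2) (π a 3) (by rw [vec4', vec4']; exact heq2)
    exact hmemN q h2 h3
  haveI := hN'
  have hinv : ∀ z : ↥H ⧸ N.subgroupOf H, z * z = 1 := fun z => by
    induction z using QuotientGroup.induction_on with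
    | H x =>
      rw [← QuotientGroup.mk_mul, QuotientGroup.eq_one_iff, Subgroup.mem_subgroupOf]
      exact hsq x
  have hcard : Nat.card (↥H ⧸ N.subgroupOf H) = 32 := by
    rw [← Subgroup.index_eq_card]
    show N.relIndex H = 32
    rw [← Subgroup.relIndex_mul_relIndex N P H hNP hPH, hPN, hHP]
  have hinv1 : ∀ z : ↥H ⧸ N.subgroupOf H, z⁻¹ = z := fun z => inv_eq_of_mul_eq_one_right (hinv z)
  have hab : ∀ z w : ↥H ⧸ N.subgroupOf H, z * w = w * z := fun z w => by
    rw [← hinv1 (z * w), _root_.mul_inv_rev, hinv1, hinv1]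
  have h := h4 H (N.subgroupOf H) ⊤ (.of_setLike_mul_comm fun a _ c _ => hab a c)
    (fun a _ => by rw [pow_two, hinv])
  rw [Subgroup.card_top, hcard] at h
  norm_num at h

end Cfsg.Agent.H42.Radical
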